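import Groth.Prelude.Def_ProCons
import Mathlib.Topology.Spectral.ConstructibleTopology
import Mathlib.Topology.Spectral.Prespectral
import Mathlib.AlgebraicGeometry.Morphisms.QuasiCompact
import Mathlib.AlgebraicGeometry.Properties
import Mathlib.AlgebraicGeometry.Morphisms.QuasiSeparated

/-!
# Pro-constructible subsets: constructible topology, closures

`consClosed E`: closed in the constructible topology.
-/

set_option autoImplicit false

universe u

open Topology TopologicalSpace

namespace Groth.Agent.ProConsLib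

section top

variable {X : Type u} [TopologicalSpace X]

/-- Closed for the constructible topology. -/
def ConsClosed (E : Set X) : Prop := IsClosed[constructibleTopology X] E

variable [CompactSpace X] [QuasiSeparatedSpace X] [PrespectralSpace X]

theorem constructibleTopology_le : constructibleTopology X ≤ ‹TopologicalSpace X› := by
  intro U hU
  obtain ⟨S, hS, rfl⟩ := PrespectralSpace.isTopologicalBasis.open_eq_sUnion hU
  exact @isOpen_sUnion X (constructibleTopology X) S fun s hs =>
    (hS hs).2.isOpen_constructibleTopology_of_isOpen (hS hs).1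

theorem consClosed_of_isClosed {E : Set X} (h : IsClosed E) : ConsClosed E :=
  h.mono constructibleTopology_le

theorem consClosed_of_isConstructible {E : Set X} (h : IsConstructible E) : ConsClosed E := by
  suffices IsOpen[constructibleTopology X] E ∧ IsClosed[constructibleTopology X] E from this.2
  refine BooleanSubalgebra.closure_bot_sup_induction
    (p := fun s _ => IsOpen[constructibleTopology X] s ∧ IsClosed[constructibleTopology X] s)
    ?_ ?_ ?_ ?_ h
  · rintro s ⟨hs, hs'⟩
    exact ⟨hs'.isCompact.isOpen_constructibleTopology_of_isOpen hs, @IsClosed.mk X (constructibleTopology X) s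
      (IsCompact.isOpen_constructibleTopology_of_isClosed (by rw [compl_compl]; exact hs'.isCompact) hs.isClosed_compl)⟩
  · exact ⟨@isOpen_empty _ (constructibleTopology X), @isClosed_empty _ (constructibleTopology X)⟩
  · rintro s _ t _ ⟨hs, hs'⟩ ⟨ht, ht'⟩
    exact ⟨@IsOpen.union _ _ _ (constructibleTopology X) hs ht, @IsClosed.union _ _ _ (constructibleTopology X) hs' ht'⟩
  · rintro s _ ⟨hs, hs'⟩
    exact ⟨@IsClosed.isOpen_compl X (constructibleTopology X) s hs',
      @IsClosed.mk X (constructibleTopology X) sᶜ ((compl_compl s).symm ▸ hs)⟩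

theorem consClosed_sInter {S : Set (Set X)} (h : ∀ T ∈ S, ConsClosed T) : ConsClosed (⋂₀ S) :=
  @isClosed_sInter X (constructibleTopology X) S h

theorem consClosed_of_isLocallyConstructible {E : Set X} (h : IsLocallyConstructible E) : ConsClosed E :=
  consClosed_of_isConstructible h.isConstructible

variable [QuasiSober X]

theorem compactSpace_cons : @CompactSpace X (constructibleTopology X) :=
  @Function.Surjective.compactSpace _ X _ (constructibleTopology X) _
    (WithTopology.continuous_ofTopology _) _ (WithTopology.ofTopology_surjective _)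

theorem ConsClosed.isCompact {E : Set X} (h : ConsClosed E) : IsCompact E := by
  have hc : @IsCompact X (constructibleTopology X) E :=
    @IsClosed.isCompact X (constructibleTopology X) _ compactSpace_cons h
  have := @IsCompact.image X X (constructibleTopology X) ‹_› E id hc (continuous_id_iff_le.mpr constructibleTopology_le)
  rwa [Set.image_id] at this

/-- Closure of a set closed in the constructible topology is given by specializations. -/
theorem ConsClosed.exists_specializes_of_mem_closure {E : Set X} (h : ConsClosed E) {y : X}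
    (hy : y ∈ closure E) : ∃ z ∈ E, z ⤳ y := by
  let ι := {U : Set X // IsOpen U ∧ IsCompact U ∧ y ∈ U}
  have hcl : ∀ U : ι, IsClosed[constructibleTopology X] (E ∩ U.1) := fun U =>
    @IsClosed.inter X _ _ (constructibleTopology X) h
      (consClosed_of_isConstructible (U.2.2.1.isConstructible U.2.1))
  haveI : Nonempty ι := ⟨⟨Set.univ, isOpen_univ, isCompact_univ, trivial⟩⟩
  have hne : (⋂ U : ι, E ∩ U.1).Nonempty := by
    refine @IsCompact.nonempty_iInter_of_directed_nonempty_isCompact_isClosed X (constructibleTopology X) ι _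
      (fun U : ι => E ∩ U.1) ?_ ?_ ?_ hcl
    · intro U V
      refine ⟨⟨U.1 ∩ V.1, U.2.1.inter V.2.1,
        QuasiSeparatedSpace.inter_isCompact _ _ U.2.1 U.2.2.1 V.2.1 V.2.2.1, U.2.2.2, V.2.2.2⟩, ?_, ?_⟩
      · exact fun z hz => ⟨hz.1, hz.2.1⟩
      · exact fun z hz => ⟨hz.1, hz.2.2⟩
    · intro U
      rw [Set.inter_comm]
      exact mem_closure_iff.mp hy U.1 U.2.1 U.2.2.2
    · exact fun U => @IsClosed.isCompact X (constructibleTopology X) _ compactSpace_cons (hcl U)
  obtain ⟨z, hz⟩ := hne
  rw [Set.mem_iInter] at hz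
  refine ⟨z, (hz (Classical.arbitrary ι)).1, ?_⟩
  rw [specializes_iff_forall_open]
  intro O hO hyO
  obtain ⟨U, ⟨hU, hU'⟩, hyU, hUO⟩ := PrespectralSpace.isTopologicalBasis.exists_subset_of_mem_open hyO hO
  exact hUO (hz ⟨U, hU, hU', hyU⟩).2

/-- For a spectral map out of a spectral space, the closure of the image is given by specializations. -/
theorem exists_specializes_of_mem_closure_range {Y : Type u} [TopologicalSpace Y] [CompactSpace Y]
    [QuasiSeparatedSpace Y] [PrespectralSpace Y] {g : X → Y} (hg : IsSpectralMap g) {y : Y}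
    (hy : y ∈ closure (Set.range g)) : ∃ x, g x ⤳ y := by
  let ι := {U : Set Y // IsOpen U ∧ IsCompact U ∧ y ∈ U}
  have hcl : ∀ U : ι, IsClosed[constructibleTopology X] (g ⁻¹' U.1) := fun U =>
    consClosed_of_isConstructible ((hg.isCompact_preimage_of_isOpen U.2.1 U.2.2.1).isConstructible
      (U.2.1.preimage hg.continuous))
  haveI : Nonempty ι := ⟨⟨Set.univ, isOpen_univ, isCompact_univ, trivial⟩⟩
  have hne : (⋂ U : ι, g ⁻¹' U.1).Nonempty := by
    refine @IsCompact.nonempty_iInter_of_directed_nonempty_isCompact_isClosed X (constructibleTopology X) ι _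
      (fun U : ι => g ⁻¹' U.1) ?_ ?_ ?_ hcl
    · intro U V
      exact ⟨⟨U.1 ∩ V.1, U.2.1.inter V.2.1,
        QuasiSeparatedSpace.inter_isCompact _ _ U.2.1 U.2.2.1 V.2.1 V.2.2.1, U.2.2.2, V.2.2.2⟩,
        fun z hz => hz.1, fun z hz => hz.2⟩
    · intro U
      obtain ⟨w, hw, x, rfl⟩ := mem_closure_iff.mp hy U.1 U.2.1 U.2.2.2
      exact ⟨x, hw⟩
    · exact fun U => @IsClosed.isCompact X (constructibleTopology X) _ compactSpace_cons (hcl U)
  obtain ⟨x, hx⟩ := hne
  rw [Set.mem_iInter] at hx
  refine ⟨x, ?_⟩
  rw [specializes_iff_forall_open]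
  intro O hO hyO
  obtain ⟨U, ⟨hU, hU'⟩, hyU, hUO⟩ := PrespectralSpace.isTopologicalBasis.exists_subset_of_mem_open hyO hO
  exact hUO (hx ⟨U, hU, hU', hyU⟩)

end top

section scheme

open AlgebraicGeometry

variable {X : Scheme.{u}}

theorem spectral_opens {V : X.Opens} (hV : IsAffineOpen V) :
    CompactSpace (V : Set X) ∧ QuasiSeparatedSpace (V : Set X) ∧ PrespectralSpace (V : Set X) ∧ QuasiSober (V : Set X) := by
  haveI : IsAffine (V : Scheme) := hV
  exact ⟨inferInstanceAs (CompactSpace (V : Scheme)), inferInstanceAs (QuasiSeparatedSpace (V : Scheme)),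
    inferInstanceAs (PrespectralSpace (V : Scheme)), inferInstanceAs (QuasiSober (V : Scheme))⟩

/-- Around every point there is an affine open on which a pro-constructible set is closed for the
constructible topology. -/
theorem exists_affine_consClosed {E : Set X} (hE : ProCons.IsProConstructible E) (x : X) :
    ∃ V : X.Opens, IsAffineOpen V ∧ x ∈ V ∧
      ∃ S : Set (Set (V : Set X)), (∀ T ∈ S, IsConstructible T) ∧ (Subtype.val ⁻¹' E : Set (V : Set X)) = ⋂₀ S := by
  obtain ⟨U, hU, hxU, S, hS, hE⟩ := hE x
  obtain ⟨_, ⟨V, hV, rfl⟩, hxV, hVU⟩ := X.isBasis_affineOpens.exists_subset_of_mem_open hxU hU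
  let j : ↥(V : Set X) → U := fun v => ⟨v.1, hVU v.2⟩
  have hj : IsOpenEmbedding j := .inclusion hVU (V.isOpen.preimage continuous_subtype_val)
  obtain ⟨_, _, _, _⟩ := spectral_opens hV
  refine ⟨V, hV, hxV, (fun T => j ⁻¹' T) '' S, ?_, ?_⟩
  · rintro _ ⟨T, hT, rfl⟩
    exact ((hS T hT).preimage_of_isOpenEmbedding hj).isConstructible
  · ext v
    have := Set.ext_iff.mp hE (j v)
    simp only [Set.mem_preimage, Set.mem_sInter] at this ⊢
    exact this.trans ⟨fun h T hT => by obtain ⟨T', hT', rfl⟩ := hT; exact h T' hT',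
      fun h T hT => h _ ⟨T, hT, rfl⟩⟩

theorem exists_specializes_of_mem_closure {E : Set X} (hE : ProCons.IsProConstructible E) {y : X}
    (hy : y ∈ closure E) : ∃ z ∈ E, z ⤳ y := by
  obtain ⟨V, hV, hyV, S, hS, hEV⟩ := exists_affine_consClosed hE y
  obtain ⟨_, _, _, _⟩ := spectral_opens hV
  have hcl : ConsClosed (Subtype.val ⁻¹' E : Set (V : Set X)) :=
    hEV ▸ consClosed_sInter fun T hT => consClosed_of_isConstructible (hS T hT)
  have hy' : (⟨y, hyV⟩ : (V : Set X)) ∈ closure (Subtype.val ⁻¹' E : Set (V : Set X)) := by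
    rw [V.isOpen.isOpenEmbedding_subtypeVal.isInducing.closure_eq_preimage_closure_image,
      Subtype.image_preimage_coe, Set.mem_preimage]
    exact V.isOpen.inter_closure ⟨hyV, hy⟩
  obtain ⟨z, hz, hzy⟩ := hcl.exists_specializes_of_mem_closure hy'
  exact ⟨z.1, hz, hzy.map continuous_subtype_val⟩

end scheme

end Groth.Agent.ProConsLib
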