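import Groth.Agent.ProConsLib.Basic
import Mathlib.AlgebraicGeometry.Morphisms.Affine
import Mathlib.Topology.LocallyClosed

/-!
# Pro-constructible sets and quasi-compact morphisms
-/

set_option autoImplicit false

universe u

open Topology TopologicalSpace AlgebraicGeometry CategoryTheory

namespace Groth.Agent.ProConsLib

section top

variable {X Y : Type u} [TopologicalSpace X] [TopologicalSpace Y]

theorem consClosed_inter {E F : Set X} (hE : ConsClosed E) (hF : ConsClosed F) : ConsClosed (E ∩ F) :=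
  @IsClosed.inter X _ _ (constructibleTopology X) hE hF

variable [CompactSpace X] [QuasiSeparatedSpace X] [PrespectralSpace X] [QuasiSober X]
  [CompactSpace Y] [QuasiSeparatedSpace Y] [PrespectralSpace Y]

/-- Closure of the spectral image of a set closed in the constructible topology. -/
theorem exists_specializes_of_mem_closure_image {g : X → Y} (hg : IsSpectralMap g) {E : Set X}
    (hE : ConsClosed E) {y : Y} (hy : y ∈ closure (g '' E)) : ∃ x ∈ E, g x ⤳ y := by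
  let ι := {U : Set Y // IsOpen U ∧ IsCompact U ∧ y ∈ U}
  have hcl : ∀ U : ι, IsClosed[constructibleTopology X] (E ∩ g ⁻¹' U.1) := fun U =>
    consClosed_inter hE (consClosed_of_isConstructible
      ((hg.isCompact_preimage_of_isOpen U.2.1 U.2.2.1).isConstructible (U.2.1.preimage hg.continuous)))
  haveI : Nonempty ι := ⟨⟨Set.univ, isOpen_univ, isCompact_univ, trivial⟩⟩
  have hne : (⋂ U : ι, E ∩ g ⁻¹' U.1).Nonempty := by
    refine @IsCompact.nonempty_iInter_of_directed_nonempty_isCompact_isClosed X (constructibleTopology X) ι _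
      (fun U : ι => E ∩ g ⁻¹' U.1) ?_ ?_ ?_ hcl
    · intro U V
      exact ⟨⟨U.1 ∩ V.1, U.2.1.inter V.2.1,
        QuasiSeparatedSpace.inter_isCompact _ _ U.2.1 U.2.2.1 V.2.1 V.2.2.1, U.2.2.2, V.2.2.2⟩,
        fun z hz => ⟨hz.1, hz.2.1⟩, fun z hz => ⟨hz.1, hz.2.2⟩⟩
    · intro U
      obtain ⟨w, hw, x, hx, rfl⟩ := mem_closure_iff.mp hy U.1 U.2.1 U.2.2.2
      exact ⟨x, hx, hw⟩
    · exact fun U => @IsClosed.isCompact X (constructibleTopology X) _ compactSpace_cons (hcl U)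
  obtain ⟨x, hx⟩ := hne
  rw [Set.mem_iInter] at hx
  refine ⟨x, (hx (Classical.arbitrary ι)).1, ?_⟩
  rw [specializes_iff_forall_open]
  intro O hO hyO
  obtain ⟨U, ⟨hU, hU'⟩, hyU, hUO⟩ := PrespectralSpace.isTopologicalBasis.exists_subset_of_mem_open hyO hO
  exact hUO (hx ⟨U, hU, hU', hyU⟩).2

omit [QuasiSober X] in
theorem isConstructible_preimage {g : X → Y} (hg : IsSpectralMap g) {T : Set Y} (hT : IsConstructible T) :
    IsConstructible (g ⁻¹' T) :=
  hT.preimage hg.continuous fun s hs hs' =>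
    (hg.isCompact_preimage_of_isOpen hs hs'.isCompact).isRetrocompact (hs.preimage hg.continuous)

end top

variable {X Y : Scheme.{u}}

/-- A set on affine charts: intersection of constructible sets. -/
theorem exists_affine_subset {E : Set X} (hE : ProCons.IsProConstructible E) {x : X} {O : X.Opens} (hxO : x ∈ O) :
    ∃ V : X.Opens, IsAffineOpen V ∧ x ∈ V ∧ V ≤ O ∧
      ∃ S : Set (Set (V : Set X)), (∀ T ∈ S, IsConstructible T) ∧
        (Subtype.val ⁻¹' E : Set (V : Set X)) = ⋂₀ S := by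
  obtain ⟨V₀, hV₀, hxV₀, S, hS, hE⟩ := exists_affine_consClosed hE x
  obtain ⟨_, ⟨V, hV, rfl⟩, hxV, hVU⟩ := X.isBasis_affineOpens.exists_subset_of_mem_open
    (show x ∈ (V₀ : Set X) ∩ O from ⟨hxV₀, hxO⟩) (V₀.isOpen.inter O.isOpen)
  let j : ↥(V : Set X) → ↥(V₀ : Set X) := fun v => ⟨v.1, (hVU v.2).1⟩
  have hj : IsOpenEmbedding j := .inclusion (hVU.trans Set.inter_subset_left) (V.isOpen.preimage continuous_subtype_val)
  obtain ⟨_, _, _, _⟩ := spectral_opens hV
  refine ⟨V, hV, hxV, fun v hv => (hVU hv).2, (fun T => j ⁻¹' T) '' S, ?_, ?_⟩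
  · rintro _ ⟨T, hT, rfl⟩
    exact (hS T hT).preimage_of_isOpenEmbedding hj
  · ext v
    have := Set.ext_iff.mp hE (j v)
    simp only [Set.mem_preimage, Set.mem_sInter] at this ⊢
    exact this.trans ⟨fun h T hT => by obtain ⟨T', hT', rfl⟩ := hT; exact h T' hT',
      fun h T hT => h _ ⟨T, hT, rfl⟩⟩

theorem isProConstructible_of_affine {E : Set X} (h : ∀ x : X, ∃ V : X.Opens, IsAffineOpen V ∧ x ∈ V ∧
    ∃ S : Set (Set (V : Set X)), (∀ T ∈ S, IsConstructible T) ∧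
      (Subtype.val ⁻¹' E : Set (V : Set X)) = ⋂₀ S) : ProCons.IsProConstructible E := fun x => by
  obtain ⟨V, -, hxV, S, hS, hE⟩ := h x
  exact ⟨V, V.isOpen, hxV, S, fun T hT => (hS T hT).isLocallyConstructible, hE⟩

theorem isSpectralMap_of_affine {V : Y.Opens} {W : X.Opens} (f : X ⟶ Y) (hV : IsAffineOpen V)
    (hW : IsAffineOpen W) (h : W ≤ f ⁻¹ᵁ V) :
    IsSpectralMap (fun w : ↥(W : Set X) => (⟨f.base w.1, h w.2⟩ : ↥(V : Set Y))) := by
  haveI : IsAffine (W : Scheme) := hW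
  haveI : IsAffine (V : Scheme) := hV
  have := (f.resLE V W h).isSpectralMap
  have e : (fun w : ↥(W : Set X) => (⟨f.base w.1, h w.2⟩ : ↥(V : Set Y))) = (f.resLE V W h).base :=
    funext fun w => Subtype.ext (congr($(Scheme.Hom.resLE_comp_ι f h).base w)).symm
  exact e ▸ this

theorem preimage {E : Set Y} (hE : ProCons.IsProConstructible E) (f : X ⟶ Y) :
    ProCons.IsProConstructible (f.base ⁻¹' E) := by
  refine isProConstructible_of_affine fun x => ?_
  obtain ⟨V, hV, hxV, S, hS, hEV⟩ := exists_affine_consClosed hE (f.base x)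
  obtain ⟨_, ⟨W, hW, rfl⟩, hxW, hWV⟩ :=
    X.isBasis_affineOpens.exists_subset_of_mem_open (show x ∈ f ⁻¹ᵁ V from hxV) (f ⁻¹ᵁ V).isOpen
  obtain ⟨_, _, _, _⟩ := spectral_opens hV
  obtain ⟨_, _, _, _⟩ := spectral_opens hW
  let g : ↥(W : Set X) → ↥(V : Set Y) := fun w => ⟨f.base w.1, hWV w.2⟩
  refine ⟨W, hW, hxW, (fun T => g ⁻¹' T) '' S, ?_, ?_⟩
  · rintro _ ⟨T, hT, rfl⟩
    exact isConstructible_preimage (isSpectralMap_of_affine f hV hW hWV) (hS T hT)
  · ext w
    have := Set.ext_iff.mp hEV (g w)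
    simp only [Set.mem_preimage, Set.mem_sInter] at this ⊢
    exact this.trans ⟨fun h T hT => by obtain ⟨T', hT', rfl⟩ := hT; exact h T' hT',
      fun h T hT => h _ ⟨T, hT, rfl⟩⟩

/-- Pieces of a pro-constructible set over an affine open of the base, for a quasi-compact morphism. -/
theorem exists_finite_cover {E : Set X} (hE : ProCons.IsProConstructible E) (f : X ⟶ Y) [QuasiCompact f]
    {V : Y.Opens} (hV : IsAffineOpen V) :
    ∃ s : Set X.Opens, s.Finite ∧ (f.base ⁻¹' (V : Set Y) ⊆ ⋃ W ∈ s, (W : Set X)) ∧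
      ∀ W ∈ s, IsAffineOpen W ∧ W ≤ f ⁻¹ᵁ V ∧
        ∃ S : Set (Set (W : Set X)), (∀ T ∈ S, IsConstructible T) ∧
          (Subtype.val ⁻¹' E : Set (W : Set X)) = ⋂₀ S := by
  have hc := f.isCompact_preimage hV.isCompact
  choose W hW using fun x : f ⁻¹ᵁ V => exists_affine_subset hE x.2
  obtain ⟨t, ht⟩ := hc.elim_finite_subcover (fun x => (W x : Set X)) (fun x => (W x).isOpen)
    fun x hx => Set.mem_iUnion.mpr ⟨⟨x, hx⟩, (hW ⟨x, hx⟩).2.1⟩
  refine ⟨W '' t, t.finite_toSet.image W, ?_, ?_⟩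
  · intro x hx
    obtain ⟨i, hi, hxi⟩ := Set.mem_iUnion₂.mp (ht hx)
    exact Set.mem_biUnion ⟨i, hi, rfl⟩ hxi
  · rintro _ ⟨x, -, rfl⟩
    exact ⟨(hW x).1, (hW x).2.2.1, (hW x).2.2.2⟩

/-- Closure of the image of a pro-constructible set by a quasi-compact morphism. -/
theorem exists_specializes_of_mem_closure_image_scheme {E : Set X} (hE : ProCons.IsProConstructible E)
    (f : X ⟶ Y) [QuasiCompact f] {y : Y} (hy : y ∈ closure (f.base '' E)) : ∃ x ∈ E, f.base x ⤳ y := by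
  obtain ⟨_, ⟨V, hV, rfl⟩, hyV, -⟩ :=
    Y.isBasis_affineOpens.exists_subset_of_mem_open (Set.mem_univ y) isOpen_univ
  obtain ⟨s, hs, hcov, hWs⟩ := exists_finite_cover hE f hV
  have hy' : y ∈ closure (⋃ W ∈ s, f.base '' (E ∩ (W : Set X))) := by
    refine closure_mono ?_ (V.isOpen.inter_closure ⟨hyV, hy⟩)
    rintro _ ⟨hv, x, hx, rfl⟩
    obtain ⟨W, hW, hxW⟩ := Set.mem_iUnion₂.mp (hcov hv)
    exact Set.mem_biUnion hW ⟨x, ⟨hx, hxW⟩, rfl⟩
  rw [hs.closure_biUnion, Set.mem_iUnion₂] at hy'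
  obtain ⟨W, hW, hyW⟩ := hy'
  obtain ⟨hWa, hWV, S, hS, hEW⟩ := hWs W hW
  obtain ⟨_, _, _, _⟩ := spectral_opens hV
  obtain ⟨_, _, _, _⟩ := spectral_opens hWa
  let g : ↥(W : Set X) → ↥(V : Set Y) := fun w => ⟨f.base w.1, hWV w.2⟩
  have hcl : ConsClosed (Subtype.val ⁻¹' E : Set (W : Set X)) :=
    hEW ▸ consClosed_sInter fun T hT => consClosed_of_isConstructible (hS T hT)
  have hy2 : (⟨y, hyV⟩ : ↥(V : Set Y)) ∈ closure (g '' (Subtype.val ⁻¹' E)) := by
    rw [IsInducing.subtypeVal.closure_eq_preimage_closure_image, Set.mem_preimage]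
    refine closure_mono ?_ hyW
    rintro _ ⟨x, ⟨hx, hxW⟩, rfl⟩
    exact ⟨g ⟨x, hxW⟩, ⟨⟨x, hxW⟩, hx, rfl⟩, rfl⟩
  obtain ⟨x, hx, hxy⟩ := exists_specializes_of_mem_closure_image (isSpectralMap_of_affine f hV hWa hWV) hcl hy2
  exact ⟨x.1, hx, hxy.map continuous_subtype_val⟩

theorem isCompact_image_inter {E : Set X} (hE : ProCons.IsProConstructible E) (f : X ⟶ Y) [QuasiCompact f]
    {V : Y.Opens} (hV : IsAffineOpen V) : IsCompact (f.base '' E ∩ (V : Set Y)) := by
  obtain ⟨s, hs, hcov, hWs⟩ := exists_finite_cover hE f hV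
  have : f.base '' E ∩ (V : Set Y) = f.base '' (⋃ W ∈ s, (E ∩ (W : Set X))) := by
    ext y
    constructor
    · rintro ⟨⟨x, hx, rfl⟩, hv⟩
      obtain ⟨W, hW, hxW⟩ := Set.mem_iUnion₂.mp (hcov hv)
      exact ⟨x, Set.mem_biUnion hW ⟨hx, hxW⟩, rfl⟩
    · rintro ⟨x, hx, rfl⟩
      obtain ⟨W, hW, hxE, hxW⟩ := Set.mem_iUnion₂.mp hx
      exact ⟨⟨x, hxE, rfl⟩, (hWs W hW).2.1 hxW⟩
  rw [this]
  refine (hs.isCompact_biUnion fun W hW => ?_).image f.continuous
  obtain ⟨hWa, -, S, hS, hEW⟩ := hWs W hW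
  obtain ⟨_, _, _, _⟩ := spectral_opens hWa
  have hcl : ConsClosed (Subtype.val ⁻¹' E : Set (W : Set X)) :=
    hEW ▸ consClosed_sInter fun T hT => consClosed_of_isConstructible (hS T hT)
  have := hcl.isCompact.image continuous_subtype_val
  rwa [Subtype.image_preimage_coe, Set.inter_comm] at this

/-- A locally closed set which is compact on affines is pro-constructible. -/
theorem isProConstructible_of_isLocallyClosed {Z : Set X} (hZ : IsLocallyClosed Z)
    (hc : ∀ V : X.Opens, IsAffineOpen V → IsCompact (Z ∩ (V : Set X))) : ProCons.IsProConstructible Z := by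
  refine isProConstructible_of_affine fun x => ?_
  obtain ⟨_, ⟨V, hV, rfl⟩, hxV, -⟩ :=
    X.isBasis_affineOpens.exists_subset_of_mem_open (Set.mem_univ x) isOpen_univ
  obtain ⟨_, _, _, _⟩ := spectral_opens hV
  obtain ⟨O, C, hO, hC, hOC⟩ := hZ.preimage (continuous_subtype_val (p := fun v => v ∈ (V : Set X)))
  have hZc : IsCompact (Subtype.val ⁻¹' Z : Set (V : Set X)) := by
    rw [Subtype.isCompact_iff, Subtype.image_preimage_coe, Set.inter_comm]
    exact hc V hV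
  obtain ⟨K, hKc, hKo, hZK, hKO⟩ := PrespectralSpace.exists_isCompact_and_isOpen_between hZc hO
    (hOC ▸ Set.inter_subset_left)
  refine ⟨V, hV, hxV, insert K (compl '' {U | IsOpen U ∧ IsCompact U ∧ U ⊆ Cᶜ}), ?_, ?_⟩
  · rintro _ (rfl | ⟨U, ⟨hU, hU', -⟩, rfl⟩)
    · exact hKc.isConstructible hKo
    · exact (hU'.isConstructible hU).compl
  · rw [Set.sInter_insert]
    ext v
    simp only [Set.mem_inter_iff, Set.mem_sInter, Set.forall_mem_image, Set.mem_setOf_eq, Set.mem_compl_iff]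
    constructor
    · intro hv
      have hvC : v ∈ C := ((Set.ext_iff.mp hOC v).mp hv).2
      exact ⟨hZK hv, fun U hU hvU => hU.2.2 hvU hvC⟩
    · rintro ⟨hvK, hv⟩
      refine (Set.ext_iff.mp hOC v).mpr ⟨hKO hvK, ?_⟩
      by_contra hvC
      obtain ⟨U, ⟨hU, hU'⟩, hvU, hUC⟩ :=
        PrespectralSpace.isTopologicalBasis.exists_subset_of_mem_open (show v ∈ Cᶜ from hvC) hC.isOpen_compl
      exact hv ⟨hU, hU', hUC⟩ hvU

end Groth.Agent.ProConsLib
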